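import Cfsg.Agent.H0.EJ1Z.D
set_option maxRecDepth 100000
set_option Elab.async false
set_option linter.unusedSectionVars false
namespace H0.EJ1Z
open H0 BN 
theorem defs_ok : DefsOK R.p defs 9 := defsOK_of_chk c28
universe u
variable {G : Type u} [Group G] [Finite G] (m0 : Model G) (h0 : m0.R = H0.MJ1.R)
noncomputable def m : Model G := m0.ext (lg := nat_lit 9) (N := nat_lit 512) (l := H0.MJ1.nl) h0 nl nl_ok 9 rfl defs defs_ok (by decide +kernel)
theorem mR : (m m0 h0).R = R := rfl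
variable (hb : m0.pst [1, 111, 0] = ⊥) (hc : Nat.card G = 175560)
include h0 hb hc
theorem base : (m m0 h0).pst [1, 111, 0] = ⊥ := hb
omit hb hc in
theorem geq {x : ℕ} (h : x < 9) : (m m0 h0).g x = m0.g x := m0.ext_g h0 _ _ _ _ _ _ _ h
theorem K_iso : Nonempty (alternatingGroup (Fin (3 + 2)) ≃* gen (m m0 h0).g ((lets 3).map (sh 9))) :=
  alt_off _ 9 (all_take_done (all_take_step (all_take_zero _ (((altW 3).map (sh 9)).map fun r => (r, ([] : List ℕ)))) ((m m0 h0).pairs_of (base m0 h0 hb hc) (Model.via _ (mR m0 h0) (fun R => pairsB R [1, 111, 0] (((((altW 3).map (sh 9)).map fun r => (r, ([] : List ℕ))).drop 0).take 6)) c0))) (by decide +kernel)) (by decide) ((m m0 h0).ne_of_neB (Model.via _ (mR m0 h0) (fun R => neB R [9] [] 0 179 0) c1))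
omit hb hc in
theorem zch_ok : (m m0 h0).ChainOK zch [] := ((m m0 h0).chain_cons [0, 1, 0, 1, 0, 1, 0, 1, 0, 1, 0, 1, 0, 0] (Model.via _ (mR m0 h0) (fun R => Model.fixP R [] [[13], [14]]) c8) (Model.via _ (mR m0 h0) (fun R => Model.growP R [[13], [14]] [0, 1, 0, 1, 0, 1, 0, 1, 0, 1, 0, 1, 0, 0] 164 266) c9) ((m m0 h0).chain_cons [0, 1, 1, 0, 1, 0, 1] (Model.via _ (mR m0 h0) (fun R => Model.fixP R [164] [[15], [16]]) c6) (Model.via _ (mR m0 h0) (fun R => Model.growP R [[15], [16]] [0, 1, 1, 0, 1, 0, 1] 210 12) c7) ((m m0 h0).chain_cons [0, 1, 0, 0, 1, 0] (Model.via _ (mR m0 h0) (fun R => Model.fixP R [210, 164] [[17], [18]]) c4) (Model.via _ (mR m0 h0) (fun R => Model.growP R [[17], [18]] [0, 1, 0, 0, 1, 0] 186 11) c5) ((m m0 h0).chain_cons [0, 0, 0, 0] (Model.via _ (mR m0 h0) (fun R => Model.fixP R [186, 210, 164] [[19]]) c2) (Model.via _ (mR m0 h0) (fun R => Model.growP R [[19]] [0, 0, 0, 0] 176 5) c3) ((m m0 h0).chain_nil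 _)))))
theorem ztop : gen (m m0 h0).g (Model.cgens zch) = ⊤ := (m m0 h0).chain_top (zch_ok m0 h0) (hc.trans (by decide +kernel))
theorem zbdd : (m m0 h0).Bdd := (m m0 h0).bdd_of_top (ztop m0 h0 hb hc)
theorem zot : (m m0 h0).OTOK zOT := ((m m0 h0).otok_cons (zch_ok m0 h0) (hc.trans (by decide +kernel)) 3 rfl (Model.via _ (mR m0 h0) (fun R => Model.invB R (Model.cgens (zch.drop 3)) zO0) c23) ((m m0 h0).otok_cons (zch_ok m0 h0) (hc.trans (by decide +kernel)) 1 rfl (Model.via _ (mR m0 h0) (fun R => Model.invB R (Model.cgens (zch.drop 1)) zO1) c22) ((m m0 h0).otok_cons (zch_ok m0 h0) (hc.trans (by decide +kernel)) 0 rfl (Model.via _ (mR m0 h0) (fun R => Model.invB R (Model.cgens (zch.drop 0)) zO2) c21) (m m0 h0).otok_nil)))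
theorem zcm : ∀ w ∈ zCg, (m m0 h0).Cm [[12]] (ev (m m0 h0).g w) := (m m0 h0).cm_of_pairs (all_take_done (all_take_step (all_take_zero _ (zCg.flatMap fun w => [[12]].map fun y => (w ++ y, y ++ w))) ((m m0 h0).pairs_of (base m0 h0 hb hc) (Model.via _ (mR m0 h0) (fun R => pairsB R [1, 111, 0] (((zCg.flatMap fun w => [[12]].map fun y => (w ++ y, y ++ w)).drop 0).take 6)) c24))) (by decide +kernel))
theorem zn3 : (m m0 h0).Sol [[12]] zCg [176, 186, 210, 164] [176, 186, 210, 164] := (m m0 h0).sol_done [0, 1, 2, 3] (((m m0 h0).chain_bot (zch_ok m0 h0) (hc.trans (by decide +kernel))).le.trans bot_le) (by decide +kernel)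
theorem zn2 : (m m0 h0).Sol [[12]] zCg [186, 210, 164] [186, 210, 164] := (m m0 h0).sol_free (zbdd m0 h0 hb hc) (zcm m0 h0 hb hc) (zot m0 h0 hb hc) ((m m0 h0).excl_mov (zbdd m0 h0 hb hc) [0] (Model.via _ (mR m0 h0) (fun R => exclB R (subst [[12]] [0]) 176 zD2) c14)) (Model.via _ (mR m0 h0) (fun R => freeB R zOT [[12]] zCg [0, 1, 2] [186, 210, 164] [186, 210, 164] [] 176 zD2 [([], 176, 0)] [] [] zc15) c15) ((m m0 h0).solL_cons ((m m0 h0).sol_cyc [] (Bc := [176]) (T := [176]) rfl (Model.via _ (mR m0 h0) (fun R => cycB R (subst [[12]] []) [176]) c12) (Model.via _ (mR m0 h0) (fun R => cycB R (subst [[12]] []) [176]) c13) (zn3 m0 h0 hb hc)) (m m0 h0).solL_nil)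
theorem zn1 : (m m0 h0).Sol [[12]] zCg [164] [164] := (m m0 h0).sol_free (zbdd m0 h0 hb hc) (zcm m0 h0 hb hc) (zot m0 h0 hb hc) ((m m0 h0).excl_zero _ _) (Model.via _ (mR m0 h0) (fun R => freeB R zOT [[12]] zCg [0] [164] [164] [] 210 0 [([], 210, 1)] [[4], [5]] [0, 1, 0, 1, 0, 1] zc17) c17) ((m m0 h0).solL_cons ((m m0 h0).sol_cyc [0] (Bc := [186, 210]) (T := [186, 210]) rfl (Model.via _ (mR m0 h0) (fun R => cycB R (subst [[12]] [0]) [186, 210]) c11) (Model.via _ (mR m0 h0) (fun R => cycB R (subst [[12]] [0]) [186, 210]) c16) (zn2 m0 h0 hb hc)) (m m0 h0).solL_nil)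
theorem zn0 : (m m0 h0).Sol [[12]] zCg [] [] := (m m0 h0).sol_free (zbdd m0 h0 hb hc) (zcm m0 h0 hb hc) (zot m0 h0 hb hc) ((m m0 h0).excl_mov (zbdd m0 h0 hb hc) [0] (Model.via _ (mR m0 h0) (fun R => exclB R (subst [[12]] [0]) 164 zD0) c19)) (Model.via _ (mR m0 h0) (fun R => freeB R zOT [[12]] zCg [] [] [] [] 164 zD0 [([], 164, 2)] [[2], [3]] [0, 1, 0, 1, 0] zc20) c20) ((m m0 h0).solL_cons ((m m0 h0).sol_cyc [] (Bc := [164]) (T := [164]) rfl (Model.via _ (mR m0 h0) (fun R => cycB R (subst [[12]] []) [164]) c10) (Model.via _ (mR m0 h0) (fun R => cycB R (subst [[12]] []) [164]) c18) (zn1 m0 h0 hb hc)) (m m0 h0).solL_nil)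
theorem zsol : (m m0 h0).Sol [[12]] zCg [] [] := zn0 m0 h0 hb hc
theorem oz : orderOf ((m m0 h0).g 12) = 2 := orderOf_eq_prime (by simpa [sq] using (all_take_done (all_take_step (all_take_zero _ [([12, 12], [])]) ((m m0 h0).pairs_of (base m0 h0 hb hc) (Model.via _ (mR m0 h0) (fun R => pairsB R [1, 111, 0] (([([12, 12], [])].drop 0).take 1)) c25))) (by decide +kernel)) _ List.mem_cons_self) (by simpa using ((m m0 h0).ne_of_neB (Model.via _ (mR m0 h0) (fun R => neB R [12] [] 0 248 0) c26)))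
theorem cz : Subgroup.centralizer {(m m0 h0).g 12} = gl (m m0 h0).g [12] ⊔ gen (m m0 h0).g ((lets 3).map (sh 9)) :=
  gl_sh (m m0 h0).g (off := 9) (k := 3) (ks := [9, 10, 11]) (by decide +kernel) ▸ cent_sup ((m m0 h0).cent_le (zsol m0 h0 hb hc)) (by decide +kernel) (all_take_done (all_take_step (all_take_zero _ (cmE 12 (([12] ++ [9, 10, 11]).map fun x => [x]))) ((m m0 h0).pairs_of (base m0 h0 hb hc) (Model.via _ (mR m0 h0) (fun R => pairsB R [1, 111, 0] (((cmE 12 (([12] ++ [9, 10, 11]).map fun x => [x])).drop 0).take 4)) c27))) (by decide +kernel))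
theorem str : ∃ t : G, orderOf t = 2 ∧ Nonempty (Subgroup.centralizer {t} ≃* Multiplicative (ZMod 2) × (alternatingGroup (Fin (3 + 2)))) :=
  ⟨_, oz m0 h0 hb hc, two_prod (oz m0 h0 hb hc) (gl_one (m m0 h0).g 12 ▸ cz m0 h0 hb hc) (K_iso m0 h0 hb hc) (alt_cen _ (by decide))⟩
end H0.EJ1Z
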